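import Groth.Prelude.Def_W4c3severiratdpLat
import Groth.Agent.ConicEnum.Basic

/-!
Reflections in simple roots of the del Pezzo lattices and certified orbit normal forms.
-/

set_option autoImplicit false

namespace Groth.Agent.DPWeyl

open W4c3severiratdp

/-- The form on coordinate lists. -/
def fL (v w : List ℤ) : ℤ := v.headD 0 * w.headD 0 - (List.zipWith (· * ·) v.tail w.tail).sum

/-- Reflection in `r`. -/
def refl (v r : List ℤ) : List ℤ := List.zipWith (fun x y => x + fL v r * y) v r

/-- Apply a list of reflections. -/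
def app (ms : List (List ℤ)) (v : List ℤ) : List ℤ := ms.foldl refl v

/-- The reflections that lead `v` to the dominant chamber of `rs`. -/
def moves (rs : List (List ℤ)) : ℕ → List ℤ → List (List ℤ)
  | 0, _ => []
  | k + 1, v =>
    match rs.find? fun r => decide (fL v r < 0) with
    | none => []
    | some r => r :: moves rs k (refl v r)

/-- The dominant representative. -/
def nf (rs : List (List ℤ)) (k : ℕ) (v : List ℤ) : List ℤ := app (moves rs k v) v

/-- The roots orthogonal to `q`. -/
def stab (rs : List (List ℤ)) (q : List ℤ) : List (List ℤ) := rs.filter fun r => decide (fL q r = 0)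

theorem moves_subset (rs : List (List ℤ)) : ∀ (k : ℕ) (v : List ℤ), ∀ r ∈ moves rs k v, r ∈ rs := by
  intro k
  induction k with
  | zero => intro v r hr; simp [moves] at hr
  | succ k ih =>
    intro v r hr
    rw [moves] at hr
    split at hr
    · simp at hr
    · rename_i a ha
      rcases List.mem_cons.mp hr with rfl | hr
      · exact List.mem_of_find?_eq_some ha
      · exact ih _ _ hr

theorem stab_subset {rs : List (List ℤ)} {q r : List ℤ} (h : r ∈ stab rs q) : r ∈ rs :=
  (List.mem_filter.mp h).1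

theorem stab_orth {rs : List (List ℤ)} {q r : List ℤ} (h : r ∈ stab rs q) : fL q r = 0 :=
  of_decide_eq_true (List.mem_filter.mp h).2

variable {n : ℕ}

theorem zipWith_ofFn {α β γ : Type*} {m : ℕ} (f : α → β → γ) (v : Fin m → α) (w : Fin m → β) :
    List.zipWith f (List.ofFn v) (List.ofFn w) = List.ofFn fun i => f (v i) (w i) := by
  refine List.ext_getElem (by simp) fun i h1 h2 => ?_
  simp

theorem fL_ofFn (v w : DP n) : fL (List.ofFn v) (List.ofFn w) = form v w := by
  rw [fL, List.ofFn_succ, List.ofFn_succ (f := w)]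
  simp only [List.headD_cons, List.tail_cons, zipWith_ofFn, List.sum_ofFn]
  rfl

theorem form_comm (v w : DP n) : form v w = form w v := by
  simp only [form, mul_comm]

theorem form_add_left (u v w : DP n) : form (u + v) w = form u w + form v w := by
  simp only [form, Pi.add_apply, add_mul, Finset.sum_add_distrib]
  ring

theorem form_smul_left (c : ℤ) (v w : DP n) : form (c • v) w = c * form v w := by
  simp only [form, Pi.smul_apply, smul_eq_mul, mul_assoc, ← Finset.mul_sum]
  ring

theorem form_add_right (u v w : DP n) : form u (v + w) = form u v + form u w := by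
  rw [form_comm, form_add_left, form_comm v, form_comm w]

theorem form_smul_right (c : ℤ) (v w : DP n) : form v (c • w) = c * form v w := by
  rw [form_comm, form_smul_left, form_comm w]

/-- The reflection as a linear automorphism. -/
def reflEquiv (r : DP n) (h : form r r = -2) : DP n ≃ₗ[ℤ] DP n where
  toFun v := v + form v r • r
  invFun v := v + form v r • r
  map_add' u v := by simp only [form_add_left, add_smul]; abel
  map_smul' c v := by simp only [form_smul_left, RingHom.id_apply, smul_add, mul_smul]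
  left_inv v := by
    show v + form v r • r + form (v + form v r • r) r • r = v
    rw [add_assoc, ← add_smul, form_add_left, form_smul_left, h,
      show form v r + (form v r + form v r * -2) = 0 by ring, zero_smul, add_zero]
  right_inv v := by
    show v + form v r • r + form (v + form v r • r) r • r = v
    rw [add_assoc, ← add_smul, form_add_left, form_smul_left, h,
      show form v r + (form v r + form v r * -2) = 0 by ring, zero_smul, add_zero]

theorem reflEquiv_apply (r : DP n) (h : form r r = -2) (v : DP n) : reflEquiv r h v = v + form v r • r := rfl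

theorem reflEquiv_isWeyl (r : DP n) (h : form r r = -2) (hK : form (canon n) r = 0) : IsWeyl (reflEquiv r h) := by
  refine ⟨fun v w => ?_, by rw [reflEquiv_apply, hK, zero_smul, add_zero]⟩
  rw [reflEquiv_apply, reflEquiv_apply, form_add_left, form_add_right, form_add_right, form_smul_left, form_smul_left,
    form_smul_right, form_smul_right, h, form_comm r w]
  ring

theorem refl_ofFn (v r : DP n) : refl (List.ofFn v) (List.ofFn r) = List.ofFn (v + form v r • r) := by
  rw [refl, zipWith_ofFn, fL_ofFn]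
  rfl

theorem isWeyl_refl : IsWeyl (LinearEquiv.refl ℤ (DP n)) := ⟨fun _ _ => rfl, rfl⟩

theorem isWeyl_trans {f g : DP n ≃ₗ[ℤ] DP n} (hf : IsWeyl f) (hg : IsWeyl g) : IsWeyl (f.trans g) :=
  ⟨fun v w => (hg.1 _ _).trans (hf.1 v w), by rw [LinearEquiv.trans_apply, hf.2, hg.2]⟩

theorem isWeyl_symm {f : DP n ≃ₗ[ℤ] DP n} (hf : IsWeyl f) : IsWeyl f.symm := by
  refine ⟨fun v w => ?_, f.symm_apply_eq.mpr hf.2.symm⟩
  rw [← hf.1 (f.symm v) (f.symm w), f.apply_symm_apply, f.apply_symm_apply]

/-- A list is the coordinate list of a root orthogonal to the canonical class. -/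
def IsRootL (n : ℕ) (r : List ℤ) : Prop :=
  r.length = n + 1 ∧ fL r r = -2 ∧ fL (List.ofFn (canon n)) r = 0

instance : DecidablePred (IsRootL n) := fun _ => inferInstanceAs (Decidable (_ ∧ _))

/-- A vector with the given coordinate list. -/
def toV (n : ℕ) (l : List ℤ) : DP n := fun i => l.getD i 0

theorem ofFn_toV {l : List ℤ} (h : l.length = n + 1) : List.ofFn (toV n l) = l := by
  refine List.ext_getElem (by rw [List.length_ofFn, h]) fun i h1 h2 => ?_
  rw [List.getElem_ofFn]
  show l.getD i 0 = _
  rw [List.getD_eq_getElem]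

theorem toV_ofFn (v : DP n) : toV n (List.ofFn v) = v := by
  funext i
  show (List.ofFn v).getD i 0 = v i
  rw [List.getD_eq_getElem _ _ (by rw [List.length_ofFn]; exact i.is_lt), List.getElem_ofFn]

/-- A sequence of root reflections is a Weyl element fixing everything orthogonal to them. -/
theorem exists_weyl (ms : List (List ℤ)) (h : ∀ r ∈ ms, IsRootL n r) :
    ∃ g : DP n ≃ₗ[ℤ] DP n, IsWeyl g ∧ (∀ x : DP n, (∀ r ∈ ms, fL (List.ofFn x) r = 0) → g x = x) ∧
      ∀ x : DP n, List.ofFn (g x) = app ms (List.ofFn x) := by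
  induction ms with
  | nil => exact ⟨LinearEquiv.refl ℤ _, isWeyl_refl, fun _ _ => rfl, fun _ => rfl⟩
  | cons r ms ih =>
    obtain ⟨g, hg, hfix, hap⟩ := ih fun a ha => h a (List.mem_cons_of_mem _ ha)
    obtain ⟨hlen, hrr, hK⟩ := h r List.mem_cons_self
    rw [← ofFn_toV hlen, fL_ofFn] at hrr hK
    refine ⟨(reflEquiv _ hrr).trans g, isWeyl_trans (reflEquiv_isWeyl _ hrr hK) hg, fun x hx => ?_, fun x => ?_⟩
    · have h0 := hx r List.mem_cons_self
      rw [← ofFn_toV hlen, fL_ofFn] at h0
      rw [LinearEquiv.trans_apply, reflEquiv_apply, h0, zero_smul, add_zero]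
      exact hfix x fun a ha => hx a (List.mem_cons_of_mem _ ha)
    · rw [LinearEquiv.trans_apply, hap, reflEquiv_apply, ← refl_ofFn, ofFn_toV hlen]
      rfl

/-- Normal form: some Weyl element fixing the orthogonal of `rs` sends `v` to its normal form. -/
theorem exists_weyl_nf (rs : List (List ℤ)) (h : ∀ r ∈ rs, IsRootL n r) (k : ℕ) (v : DP n) :
    ∃ g : DP n ≃ₗ[ℤ] DP n, IsWeyl g ∧ (∀ x : DP n, (∀ r ∈ rs, fL (List.ofFn x) r = 0) → g x = x) ∧
      List.ofFn (g v) = nf rs k (List.ofFn v) := by
  obtain ⟨g, hg, hfix, hap⟩ := exists_weyl (moves rs k (List.ofFn v)) fun r hr => h r (moves_subset _ _ _ r hr)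
  exact ⟨g, hg, fun x hx => hfix x fun r hr => hx r (moves_subset _ _ _ r hr), hap v⟩

/-- A linear functional positive on all simple roots. -/
def ht (v : List ℤ) : ℤ := fL v [30, 8, 7, 6, 5, 4, 3, 2, 1]

/-- Dominance with respect to a list of roots. -/
def Dom (rs : List (List ℤ)) (v : List ℤ) : Prop := ∀ r ∈ rs, 0 ≤ fL v r

instance (rs : List (List ℤ)) (v : List ℤ) : Decidable (Dom rs v) :=
  inferInstanceAs (Decidable (∀ r ∈ rs, 0 ≤ fL v r))

theorem ht_add_smul (v r : DP n) (c : ℤ) :
    ht (List.ofFn (v + c • r)) = ht (List.ofFn v) + c * ht (List.ofFn r) := by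
  have key : ∀ (l : List ℤ) (x y : DP n), fL (List.ofFn (x + c • y)) l = fL (List.ofFn x) l + c * fL (List.ofFn y) l := by
    intro l x y
    have hz : ∀ (t : List ℤ) (m : ℕ) (a b : Fin m → ℤ), (List.zipWith (· * ·) (List.ofFn fun i => a i + c * b i) t).sum =
        (List.zipWith (· * ·) (List.ofFn a) t).sum + c * (List.zipWith (· * ·) (List.ofFn b) t).sum := by
      intro t
      induction t with
      | nil => intro m a b; simp
      | cons z t ih =>
        intro m a b
        cases m with
        | zero => simp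
        | succ m =>
          rw [List.ofFn_succ, List.ofFn_succ (f := a), List.ofFn_succ (f := b)]
          simp only [List.zipWith_cons_cons, List.sum_cons, ih m (fun i => a i.succ) (fun i => b i.succ)]
          ring
    rw [fL, fL, fL, List.ofFn_succ, List.ofFn_succ (f := x), List.ofFn_succ (f := y)]
    simp only [List.headD_cons, List.tail_cons, Pi.add_apply, Pi.smul_apply, smul_eq_mul]
    rw [hz l.tail n (fun i => x i.succ) (fun i => y i.succ)]
    ring
  exact key _ v r

/-- Every vector of a finite Weyl-invariant set reaches the dominant chamber of `rs`. -/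
theorem exists_weyl_dom (rs : List (List ℤ)) (h : ∀ r ∈ rs, IsRootL n r ∧ 0 < ht r) (P : DP n → Prop)
    (hP : ∀ g : DP n ≃ₗ[ℤ] DP n, IsWeyl g → ∀ v, P v → P (g v)) (b : ℤ) (hb : ∀ v, P v → b ≤ ht (List.ofFn v))
    (v : DP n) (hv : P v) :
    ∃ g : DP n ≃ₗ[ℤ] DP n, IsWeyl g ∧ (∀ x : DP n, (∀ r ∈ rs, fL (List.ofFn x) r = 0) → g x = x) ∧
      P (g v) ∧ Dom rs (List.ofFn (g v)) := by
  suffices H : ∀ (m : ℕ) (v : DP n), P v → ht (List.ofFn v) < b + m →
      ∃ g : DP n ≃ₗ[ℤ] DP n, IsWeyl g ∧ (∀ x : DP n, (∀ r ∈ rs, fL (List.ofFn x) r = 0) → g x = x) ∧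
        P (g v) ∧ Dom rs (List.ofFn (g v)) by
    exact H ((ht (List.ofFn v) - b).toNat + 1) v hv (by have := hb v hv; omega)
  intro m
  induction m with
  | zero => intro v hv hm; exact absurd (hb v hv) (by omega)
  | succ m ih =>
    intro v hv hm
    by_cases hd : Dom rs (List.ofFn v)
    · exact ⟨LinearEquiv.refl ℤ _, isWeyl_refl, fun _ _ => rfl, hv, hd⟩
    simp only [Dom, not_forall, not_le] at hd
    obtain ⟨r, hr, hneg⟩ := hd
    obtain ⟨⟨hlen, hrr, hK⟩, hpos⟩ := h r hr
    rw [← ofFn_toV hlen, fL_ofFn] at hrr hK hneg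
    rw [← ofFn_toV hlen] at hpos
    have hs := reflEquiv_isWeyl _ hrr hK
    have hlt : ht (List.ofFn (reflEquiv _ hrr v)) < b + m := by
      rw [reflEquiv_apply, ht_add_smul]
      have : form v (toV n r) * ht (List.ofFn (toV n r)) ≤ -1 := by nlinarith
      push_cast at hm
      linarith
    obtain ⟨g, hg, hfix, hPg, hdom⟩ := ih _ (hP _ hs v hv) hlt
    refine ⟨(reflEquiv _ hrr).trans g, isWeyl_trans hs hg, fun x hx => ?_, hPg, hdom⟩
    have h0 := hx r hr
    rw [← ofFn_toV hlen, fL_ofFn] at h0
    rw [LinearEquiv.trans_apply, reflEquiv_apply, h0, zero_smul, add_zero]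
    exact hfix x hx

/-- The simple roots. -/
def roots (n : ℕ) : List (List ℤ) :=
  ((List.range (n - 1)).map fun i =>
      (0 : ℤ) :: (List.range n).map fun j => if j = i then (-1 : ℤ) else if j = i + 1 then 1 else 0) ++
    if 3 ≤ n then [(1 : ℤ) :: (List.range n).map fun j => if j < 3 then (1 : ℤ) else 0] else []

/-- The exceptional vectors for eight points. -/
def excs : List (List ℤ) :=
  ((List.range 9).map fun a : ℕ => (a : ℤ) - 1).flatMap fun a =>
    (ConicEnum.search 8 (3 * a - 1) (a * a + 1)).map (a :: ·)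

theorem mem_excs {v : DP 8} (hv : IsExc v) : List.ofFn v ∈ excs := by
  obtain ⟨h1, h2⟩ := hv
  simp only [form, canon, Fin.cases_zero, Fin.cases_succ, neg_one_mul, Finset.sum_neg_distrib] at h1 h2
  rw [List.ofFn_succ]
  have hsum : (List.ofFn fun i : Fin 8 => v i.succ).sum = ∑ i : Fin 8, v i.succ := List.sum_ofFn
  have hsq : ((List.ofFn fun i : Fin 8 => v i.succ).map fun b => b * b).sum =
      ∑ i : Fin 8, v i.succ * v i.succ := by rw [List.map_ofFn, List.sum_ofFn]; rfl
  have hcs := ConicEnum.sq_sum_le (List.ofFn fun i : Fin 8 => v i.succ)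
  rw [hsum, hsq, List.length_ofFn, show (∑ i : Fin 8, v i.succ) = 3 * v 0 - 1 by linarith,
    show (∑ i : Fin 8, v i.succ * v i.succ) = v 0 * v 0 + 1 by linarith] at hcs
  have hlo : -1 ≤ v 0 := by push_cast at hcs; nlinarith
  have hhi : v 0 ≤ 7 := by push_cast at hcs; nlinarith
  simp only [excs, List.mem_flatMap, List.mem_map, List.mem_range]
  refine ⟨v 0, ⟨(v 0 + 1).toNat, by omega, by omega⟩, List.ofFn fun i : Fin 8 => v i.succ, ?_, rfl⟩
  rw [ConicEnum.mem_search 8 _ _ (by nlinarith) _, hsum, hsq, List.length_ofFn]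
  exact ⟨rfl, by linarith, by linarith⟩

theorem mem_conics {δ : ℕ} (hδ : δ ≤ 8) {v : DP δ} (hv : IsConic v) : List.ofFn v ∈ ConicEnum.conics δ := by
  rw [ConicEnum.mem_conics hδ]
  obtain ⟨h1, h2⟩ := hv
  simp only [form, canon, Fin.cases_zero, Fin.cases_succ, neg_one_mul, Finset.sum_neg_distrib] at h1 h2
  constructor <;> linarith

theorem isConic_apply {g : DP n ≃ₗ[ℤ] DP n} (hg : IsWeyl g) {v : DP n} (hv : IsConic v) : IsConic (g v) := by
  refine ⟨by rw [hg.1]; exact hv.1, ?_⟩
  rw [← hg.2, hg.1]
  exact hv.2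

theorem isExc_apply {g : DP n ≃ₗ[ℤ] DP n} (hg : IsWeyl g) {v : DP n} (hv : IsExc v) : IsExc (g v) := by
  refine ⟨by rw [hg.1]; exact hv.1, ?_⟩
  rw [← hg.2, hg.1]
  exact hv.2

end Groth.Agent.DPWeyl
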