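import Groth.Agent.DPWeyl.ConicCert

/-! Weyl orbits of pairs of conic classes. -/

set_option autoImplicit false

namespace Groth.Agent.DPWeyl

open W4c3severiratdp

theorem check_all (δ : ℕ) (h2 : 2 ≤ δ) (h8 : δ ≤ 8) : check δ = true := by
  rcases eq_or_lt_of_le h8 with rfl | h
  · exact check_eight
  · exact check_two_to_seven ⟨δ, h⟩ h2

theorem check_spec {δ : ℕ} (h2 : 2 ≤ δ) (h8 : δ ≤ 8) {v : DP δ} (hv : IsConic v) :
    -10000 ≤ ht (List.ofFn v) ∧ (Dom (roots δ) (List.ofFn v) → List.ofFn v = Q0 δ) ∧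
    (Dom (stab (roots δ) (Q0 δ)) (List.ofFn v) →
      if δ = 8 ∧ fL (Q0 δ) (List.ofFn v) = 4 then List.ofFn v ∈ four
      else List.ofFn v = tab δ (fL (Q0 δ) (List.ofFn v))) := by
  have h := check_all δ h2 h8
  rw [check, List.all_eq_true] at h
  have h' := h _ (mem_conics h8 hv)
  simp only [Bool.and_eq_true, decide_eq_true_eq, Bool.or_eq_true, Bool.not_eq_true', decide_eq_false_iff_not] at h'
  obtain ⟨⟨ha, hb⟩, hc⟩ := h'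
  refine ⟨ha, fun hd => beq_iff_eq.mp (hb.resolve_left (not_not_intro hd)), fun hd => ?_⟩
  have hc' := hc.resolve_left (not_not_intro hd)
  by_cases hs : δ = 8 ∧ fL (Q0 δ) (List.ofFn v) = 4
  · rw [if_pos hs] at hc' ⊢
    exact List.contains_iff_mem.mp hc'
  · rw [if_neg hs] at hc' ⊢
    exact beq_iff_eq.mp hc'

/-- Normal form of a pair of conic classes. -/
theorem pair_normal (δ : ℕ) (h2 : 2 ≤ δ) (h8 : δ ≤ 8) (v₁ v₂ : DP δ) (hv₁ : IsConic v₁) (hv₂ : IsConic v₂) :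
    ∃ g : DP δ ≃ₗ[ℤ] DP δ, IsWeyl g ∧ List.ofFn (g v₁) = Q0 δ ∧
      if δ = 8 ∧ form v₁ v₂ = 4 then List.ofFn (g v₂) ∈ four else List.ofFn (g v₂) = tab δ (form v₁ v₂) := by
  have hr := roots_ok ⟨δ, by omega⟩
  obtain ⟨g₁, hg₁, -, hP₁, hd₁⟩ := exists_weyl_dom (roots δ) hr IsConic (fun g hg v hv => isConic_apply hg hv) (-10000)
    (fun v hv => (check_spec h2 h8 hv).1) v₁ hv₁
  have hq := (check_spec h2 h8 hP₁).2.1 hd₁
  obtain ⟨g₂, hg₂, hfix, hP₂, hd₂⟩ := exists_weyl_dom (stab (roots δ) (Q0 δ)) (fun r hr' => hr r (stab_subset hr')) IsConic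
    (fun g hg v hv => isConic_apply hg hv) (-10000) (fun v hv => (check_spec h2 h8 hv).1) (g₁ v₂) (isConic_apply hg₁ hv₂)
  have hfix₁ : g₂ (g₁ v₁) = g₁ v₁ := hfix _ fun r hr' => by rw [hq]; exact stab_orth hr'
  refine ⟨g₁.trans g₂, isWeyl_trans hg₁ hg₂, by rw [LinearEquiv.trans_apply, hfix₁, hq], ?_⟩
  have h := (check_spec h2 h8 hP₂).2.2 hd₂
  have hf : fL (Q0 δ) (List.ofFn (g₂ (g₁ v₂))) = form v₁ v₂ := by
    rw [← hq, ← hfix₁, fL_ofFn, hg₂.1, hg₁.1]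
  rw [hf] at h
  exact h

theorem pairs (δ : ℕ) (h2 : 2 ≤ δ) (h8 : δ ≤ 8) (v₁ v₂ w₁ w₂ : DP δ) (hv₁ : IsConic v₁) (hv₂ : IsConic v₂)
    (hw₁ : IsConic w₁) (hw₂ : IsConic w₂) (heq : form v₁ v₂ = form w₁ w₂) (hexc : ¬ (δ = 8 ∧ form v₁ v₂ = 4)) :
    ∃ g : DP δ ≃ₗ[ℤ] DP δ, IsWeyl g ∧ g v₁ = w₁ ∧ g v₂ = w₂ := by
  obtain ⟨g, hg, hg1, hg2⟩ := pair_normal δ h2 h8 v₁ v₂ hv₁ hv₂
  obtain ⟨h, hh, hh1, hh2⟩ := pair_normal δ h2 h8 w₁ w₂ hw₁ hw₂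
  rw [if_neg hexc] at hg2
  rw [← heq, if_neg hexc] at hh2
  refine ⟨g.trans h.symm, isWeyl_trans hg (isWeyl_symm hh), ?_, ?_⟩
  · rw [LinearEquiv.trans_apply, LinearEquiv.symm_apply_eq]; exact List.ofFn_injective (hg1.trans hh1.symm)
  · rw [LinearEquiv.trans_apply, LinearEquiv.symm_apply_eq]; exact List.ofFn_injective (hg2.trans hh2.symm)

theorem pairs_four :
    ∃ p₁ p₂ q₁ q₂ : DP 8, IsConic p₁ ∧ IsConic p₂ ∧ IsConic q₁ ∧ IsConic q₂ ∧ form p₁ p₂ = 4 ∧ form q₁ q₂ = 4 ∧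
      (¬ ∃ g : DP 8 ≃ₗ[ℤ] DP 8, IsWeyl g ∧ g p₁ = q₁ ∧ g p₂ = q₂) ∧
      ∀ v₁ v₂ : DP 8, IsConic v₁ → IsConic v₂ → form v₁ v₂ = 4 →
        ∃ g : DP 8 ≃ₗ[ℤ] DP 8, IsWeyl g ∧ ((g v₁ = p₁ ∧ g v₂ = p₂) ∨ (g v₁ = q₁ ∧ g v₂ = q₂)) := by
  let q : DP 8 := ![1, 1, 0, 0, 0, 0, 0, 0, 0]
  let a : DP 8 := ![4, 0, 2, 2, 2, 1, 1, 1, 1]
  let b : DP 8 := ![5, 1, 2, 2, 2, 2, 2, 2, 0]
  let h : DP 8 := ![3, 1, 1, 1, 1, 1, 1, 1, 0]
  refine ⟨q, a, q, b, ?_, ?_, ?_, ?_, by decide, by decide, ?_, ?_⟩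
  · exact ⟨by decide, by decide⟩
  · exact ⟨by decide, by decide⟩
  · exact ⟨by decide, by decide⟩
  · exact ⟨by decide, by decide⟩
  · rintro ⟨g, -, h1, h2⟩
    have h3 : g (q + a) = g ((2 : ℤ) • g.symm h) := by
      rw [map_add, h1, h2, map_smul, g.apply_symm_apply]
      funext i
      fin_cases i <;> rfl
    have h4 := congrFun (g.injective h3) 0
    simp only [Pi.smul_apply, Pi.add_apply, smul_eq_mul] at h4
    rw [show q 0 = 1 from rfl, show a 0 = 4 from rfl] at h4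
    omega
  · intro v₁ v₂ hv₁ hv₂ hf
    obtain ⟨g, hg, hg1, hg2⟩ := pair_normal 8 (by norm_num) le_rfl v₁ v₂ hv₁ hv₂
    rw [if_pos ⟨rfl, hf⟩] at hg2
    have hq : List.ofFn q = Q0 8 := rfl
    simp only [four, List.mem_cons, List.not_mem_nil, or_false] at hg2
    refine ⟨g, hg, ?_⟩
    rcases hg2 with h' | h'
    · exact Or.inl ⟨List.ofFn_injective (hg1.trans hq.symm), List.ofFn_injective (h'.trans rfl)⟩
    · exact Or.inr ⟨List.ofFn_injective (hg1.trans hq.symm), List.ofFn_injective (h'.trans rfl)⟩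

end Groth.Agent.DPWeyl
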