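import Groth.Agent.DPWeyl.Basic

/-! Kernel-checked certificates for pairs of conic classes. -/

set_option autoImplicit false
set_option Elab.async false

namespace Groth.Agent.DPWeyl

/-- The base conic. -/
def Q0 (δ : ℕ) : List ℤ := ([1, 1, 0, 0, 0, 0, 0, 0, 0] : List ℤ).take (δ + 1)

/-- Representatives of the second conic by intersection number. -/
def tab (δ : ℕ) (c : ℤ) : List ℤ :=
  (([[1, 1, 0, 0, 0, 0, 0, 0, 0], [1, 0, 1, 0, 0, 0, 0, 0, 0], [2, 0, 1, 1, 1, 1, 0, 0, 0],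
      [3, 0, 2, 1, 1, 1, 1, 1, 0], [5, 1, 2, 2, 2, 2, 2, 2, 0], [5, 0, 2, 2, 2, 2, 2, 2, 1],
      [7, 1, 3, 3, 3, 3, 2, 2, 2], [8, 1, 3, 3, 3, 3, 3, 3, 3], [11, 3, 4, 4, 4, 4, 4, 4, 4]] :
    List (List ℤ)).getD c.toNat []).take (δ + 1)

/-- The two representatives for intersection number four and eight points. -/
def four : List (List ℤ) := [[4, 0, 2, 2, 2, 1, 1, 1, 1], [5, 1, 2, 2, 2, 2, 2, 2, 0]]

/-- The certificate: dominant conics, and the height bound. -/
def check (δ : ℕ) : Bool :=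
  (ConicEnum.conics δ).all fun w =>
    decide (-10000 ≤ ht w) &&
    (!decide (Dom (roots δ) w) || w == Q0 δ) &&
    (!decide (Dom (stab (roots δ) (Q0 δ)) w) ||
      if δ = 8 ∧ fL (Q0 δ) w = 4 then four.contains w else w == tab δ (fL (Q0 δ) w))

theorem roots_ok : ∀ δ : Fin 9, ∀ r ∈ roots δ, IsRootL (δ : ℕ) r ∧ 0 < ht r := by decide +kernel

theorem check_two_to_seven : ∀ δ : Fin 8, 2 ≤ (δ : ℕ) → check δ = true := by decide +kernel

theorem check_eight : check 8 = true := by decide +kernel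

end Groth.Agent.DPWeyl
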