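import Groth.Agent.DPWeyl.ExcCert

/-! Orbits of the stabiliser of an exceptional class. -/

set_option autoImplicit false

namespace Groth.Agent.DPWeyl

open W4c3severiratdp

/-- The last exceptional divisor as a vector. -/
def e0 : DP 8 := ![0, 0, 0, 0, 0, 0, 0, 0, -1]

theorem ofFn_e0 : List.ofFn e0 = E0 := rfl

theorem checkE_spec {v : DP 8} (hv : IsExc v) :
    -10000 ≤ ht (List.ofFn v) ∧ (Dom (roots 8) (List.ofFn v) → List.ofFn v = E0) ∧
    (Dom R2 (List.ofFn v) → List.ofFn v = tabE (fL E0 (List.ofFn v)) ∧ List.ofFn v ∈ five) := by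
  have h := checkE_true
  rw [checkE, List.all_eq_true] at h
  have h' := h _ (mem_excs hv)
  simp only [Bool.and_eq_true, decide_eq_true_eq, Bool.or_eq_true, Bool.not_eq_true', decide_eq_false_iff_not] at h'
  obtain ⟨⟨ha, hb⟩, hc⟩ := h'
  refine ⟨ha, fun hd => beq_iff_eq.mp (hb.resolve_left (not_not_intro hd)), fun hd => ?_⟩
  obtain ⟨h1, h2⟩ := hc.resolve_left (not_not_intro hd)
  exact ⟨beq_iff_eq.mp h1, List.contains_iff_mem.mp h2⟩

theorem R2_ok {r : List ℤ} (hr : r ∈ R2) : IsRootL 8 r ∧ 0 < ht r := roots8_ok r (stab_subset hr)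

theorem exc_first {L : DP 8} (hL : IsExc L) : ∃ g : DP 8 ≃ₗ[ℤ] DP 8, IsWeyl g ∧ g L = e0 := by
  obtain ⟨g, hg, -, hP, hd⟩ := exists_weyl_dom (roots 8) roots8_ok IsExc (fun g hg v hv => isExc_apply hg hv) (-10000)
    (fun v hv => (checkE_spec hv).1) L hL
  exact ⟨g, hg, List.ofFn_injective (((checkE_spec hP).2.1 hd).trans ofFn_e0.symm)⟩

theorem exc_second {x : DP 8} (hx : IsExc x) :
    ∃ g : DP 8 ≃ₗ[ℤ] DP 8, IsWeyl g ∧ g e0 = e0 ∧ List.ofFn (g x) = tabE (form e0 x) ∧ List.ofFn (g x) ∈ five := by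
  obtain ⟨g, hg, hfix, hP, hd⟩ := exists_weyl_dom R2 (fun r hr => R2_ok hr) IsExc
    (fun g hg v hv => isExc_apply hg hv) (-10000) (fun v hv => (checkE_spec hv).1) x hx
  have he : g e0 = e0 := hfix _ fun r hr => by rw [ofFn_e0]; exact stab_orth hr
  obtain ⟨h1, h2⟩ := (checkE_spec hP).2.2 hd
  refine ⟨g, hg, he, ?_, h2⟩
  rw [← ofFn_e0, fL_ofFn, ← congrArg (fun z => form z (g x)) he, hg.1] at h1
  exact h1

theorem transitive (L L₁ L₂ : DP 8) (hL : IsExc L) (hL₁ : IsExc L₁) (hL₂ : IsExc L₂) (h : form L₁ L = form L₂ L) :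
    ∃ g : DP 8 ≃ₗ[ℤ] DP 8, IsWeyl g ∧ g L = L ∧ g L₁ = L₂ := by
  obtain ⟨g, hg, hgL⟩ := exc_first hL
  obtain ⟨a, ha, hae, ha1, -⟩ := exc_second (isExc_apply hg hL₁)
  obtain ⟨b, hb, hbe, hb1, -⟩ := exc_second (isExc_apply hg hL₂)
  have hf : form e0 (g L₁) = form e0 (g L₂) := by
    rw [← hgL, hg.1, hg.1, form_comm, h, form_comm]
  rw [hf] at ha1
  refine ⟨((g.trans a).trans b.symm).trans g.symm,
    isWeyl_trans (isWeyl_trans (isWeyl_trans hg ha) (isWeyl_symm hb)) (isWeyl_symm hg), ?_, ?_⟩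
  · simp only [LinearEquiv.trans_apply]
    rw [LinearEquiv.symm_apply_eq, LinearEquiv.symm_apply_eq, hgL, hae, hbe]
  · simp only [LinearEquiv.trans_apply]
    rw [LinearEquiv.symm_apply_eq, LinearEquiv.symm_apply_eq]
    exact List.ofFn_injective (ha1.trans hb1.symm)

/-- The representatives, as vectors. -/
def rep (j : Fin 4) (i : Fin 3) : DP 8 := toV 8 ((triples.getD j []).getD i [])

theorem rep_spec : ∀ j : Fin 4, (∀ i, form (rep j i) (rep j i) = -1 ∧ form (canon 8) (rep j i) = -1) ∧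
    rep j 0 + rep j 1 + rep j 2 = e0 - 2 • canon 8 ∧
    triples.getD j [] = List.ofFn (fun i => List.ofFn (rep j i)) := by decide

theorem inv_inj : ∀ j j' : Fin 4, (∑ i, form (rep j i) e0 * form (rep j i) e0) =
    (∑ i, form (rep j' i) e0 * form (rep j' i) e0) → j = j' := by decide

theorem orders_perm : ∀ p ∈ orders, ∃ σ : Equiv.Perm (Fin 3), List.ofFn (fun i => (σ i : ℕ)) = p := by decide

theorem triples_index : ∀ x ∈ triples, ∃ j : Fin 4, triples.getD j [] = x := by decide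

/-- Every triple of sum `e0 - 2K` is carried to a representative. -/
theorem triple_normal (u : Fin 3 → DP 8) (hu : ∀ i, IsExc (u i)) (hsum : u 0 + u 1 + u 2 = e0 - 2 • canon 8) :
    ∃ j, ∃ g : DP 8 ≃ₗ[ℤ] DP 8, IsWeyl g ∧ g e0 = e0 ∧ ∃ σ : Equiv.Perm (Fin 3), ∀ i, g (u (σ i)) = rep j i := by
  obtain ⟨g₂, hg₂, he₂, -, hA⟩ := exc_second (hu 0)
  obtain ⟨g₃, hg₃, hfix, hP, hd⟩ := exists_weyl_dom (stab R2 (List.ofFn (g₂ (u 0))))
    (fun r hr => R2_ok (stab_subset hr)) IsExc (fun g hg v hv => isExc_apply hg hv) (-10000)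
    (fun v hv => (checkE_spec hv).1) (g₂ (u 1)) (isExc_apply hg₂ (hu 1))
  have he₃ : g₃ e0 = e0 := hfix _ fun r hr => by rw [ofFn_e0]; exact stab_orth (stab_subset hr)
  have hA₃ : g₃ (g₂ (u 0)) = g₂ (u 0) := hfix _ fun r hr => stab_orth hr
  let k := g₂.trans g₃
  have hk : IsWeyl k := isWeyl_trans hg₂ hg₃
  have hke : k e0 = e0 := by simp [k, he₂, he₃]
  let w : Fin 3 → DP 8 := fun i => k (u i)
  have hw2 : w 2 = e0 - 2 • canon 8 - (w 0 + w 1) := by
    show k (u 2) = e0 - 2 • canon 8 - (k (u 0) + k (u 1))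
    have hh := congrArg k hsum
    simp only [map_add, map_sub, map_nsmul, hke, hk.2] at hh
    rw [← hh]
    abel
  have hthird : List.ofFn (w 2) = third (List.ofFn (w 0)) (List.ofFn (w 1)) := by
    rw [third, show ([6, 2, 2, 2, 2, 2, 2, 2, 1] : List ℤ) = List.ofFn (e0 - 2 • canon 8 : DP 8) by decide,
      zipWith_ofFn, zipWith_ofFn, hw2]
    rfl
  have hc := check3_true
  rw [check3, List.all_eq_true] at hc
  have hA' : List.ofFn (w 0) ∈ five := by
    show List.ofFn (g₃ (g₂ (u 0))) ∈ five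
    rw [hA₃]; exact hA
  have hc1 := hc _ hA'
  rw [List.all_eq_true] at hc1
  have hc2 := hc1 _ (mem_excs (isExc_apply hk (hu 1)))
  simp only [Bool.or_eq_true, Bool.not_eq_true', decide_eq_false_iff_not] at hc2
  have hdom : Dom (stab R2 (List.ofFn (w 0))) (List.ofFn (w 1)) := by
    show Dom (stab R2 (List.ofFn (g₃ (g₂ (u 0))))) (List.ofFn (g₃ (g₂ (u 1))))
    rw [hA₃]; exact hd
  have hmem : excs.contains (third (List.ofFn (w 0)) (List.ofFn (w 1))) = true := by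
    rw [List.contains_iff_mem, ← hthird]; exact mem_excs (isExc_apply hk (hu 2))
  have hgood : good [List.ofFn (w 0), List.ofFn (w 1), List.ofFn (w 2)] = true := by
    rw [hthird]
    rcases hc2 with (h | h) | h
    · exact absurd hdom h
    · rw [hmem] at h; exact absurd h (by decide)
    · exact h
  rw [good, List.any_eq_true] at hgood
  obtain ⟨p, hp, hgood⟩ := hgood
  obtain ⟨σ, rfl⟩ := orders_perm p hp
  rw [List.contains_iff_mem] at hgood
  obtain ⟨j, hj⟩ := triples_index _ hgood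
  have hlist : (List.ofFn fun i : Fin 3 => (σ i : ℕ)).map (fun i => [List.ofFn (w 0), List.ofFn (w 1), List.ofFn (w 2)].getD i []) =
      List.ofFn fun i => List.ofFn (w (σ i)) := by
    rw [List.map_ofFn]
    congr 1
    funext i
    show [List.ofFn (w 0), List.ofFn (w 1), List.ofFn (w 2)].getD (σ i : ℕ) [] = List.ofFn (w (σ i))
    generalize σ i = t
    fin_cases t <;> rfl
  rw [hlist, (rep_spec j).2.2] at hj
  obtain ⟨g₄, hg₄, hfix₄, hap⟩ := exists_weyl (n := 8) (moves3 (List.ofFn fun i => List.ofFn (w (σ i)))) fun r hr => by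
    rcases List.mem_append.mp hr with h | h
    · exact (R2_ok (moves_subset _ _ _ r h)).1
    · exact (R2_ok (stab_subset (moves_subset _ _ _ r h))).1
  have he₄ : g₄ e0 = e0 := hfix₄ _ fun r hr => by
    rw [ofFn_e0]
    rcases List.mem_append.mp hr with h | h
    · exact stab_orth (moves_subset _ _ _ r h)
    · exact stab_orth (stab_subset (moves_subset _ _ _ r h))
  refine ⟨j, k.trans g₄, isWeyl_trans hk hg₄, by rw [LinearEquiv.trans_apply, hke, he₄], σ, fun i => ?_⟩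
  rw [List.map_ofFn] at hj
  have h := congrFun (List.ofFn_injective hj) i
  exact (List.ofFn_injective (h.trans (hap _).symm)).symm

theorem orbits_triples (L : DP 8) (hL : IsExc L) :
    ∃ r : Fin 4 → (Fin 3 → DP 8),
      (∀ j, (∀ i, IsExc (r j i)) ∧ r j 0 + r j 1 + r j 2 = L - 2 • canon 8) ∧
      (∀ j j', (∃ g : DP 8 ≃ₗ[ℤ] DP 8, IsWeyl g ∧ g L = L ∧ ∃ σ : Equiv.Perm (Fin 3), ∀ i, g (r j (σ i)) = r j' i) → j = j') ∧
      ∀ t : Fin 3 → DP 8, (∀ i, IsExc (t i)) → t 0 + t 1 + t 2 = L - 2 • canon 8 →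
        ∃ j, ∃ g : DP 8 ≃ₗ[ℤ] DP 8, IsWeyl g ∧ g L = L ∧ ∃ σ : Equiv.Perm (Fin 3), ∀ i, g (t (σ i)) = r j i := by
  obtain ⟨g₁, hg₁, hg₁L⟩ := exc_first hL
  have hsymm := isWeyl_symm hg₁
  have hL' : g₁.symm e0 = L := by rw [LinearEquiv.symm_apply_eq, hg₁L]
  refine ⟨fun j i => g₁.symm (rep j i), fun j => ⟨fun i => isExc_apply hsymm ((rep_spec j).1 i), ?_⟩, ?_, ?_⟩
  · rw [← map_add, ← map_add, (rep_spec j).2.1, map_sub, map_nsmul, hL', hsymm.2]
  · rintro j j' ⟨g, hg, hgL, σ, hσ⟩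
    refine inv_inj j j' ?_
    have key : ∀ i, form (rep j' i) e0 = form (rep j (σ i)) e0 := fun i => by
      have h1 := hσ i
      simp only at h1
      rw [← hsymm.1 (rep j' i) e0, ← h1, hL', ← congrArg (form (g (g₁.symm (rep j (σ i))))) hgL, hg.1,
        ← hL', hsymm.1]
    simp only [key]
    exact (Equiv.sum_comp σ fun i => form (rep j i) e0 * form (rep j i) e0).symm
  · intro t ht hsum
    obtain ⟨j, g, hg, hge, σ, hσ⟩ := triple_normal (fun i => g₁ (t i)) (fun i => isExc_apply hg₁ (ht i))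
      (by rw [← map_add, ← map_add, hsum, map_sub, map_nsmul, hg₁L, hg₁.2])
    refine ⟨j, (g₁.trans g).trans g₁.symm, isWeyl_trans (isWeyl_trans hg₁ hg) hsymm, ?_, σ, fun i => ?_⟩
    · simp only [LinearEquiv.trans_apply, hg₁L, hge, hL']
    · simp only [LinearEquiv.trans_apply]
      exact congrArg g₁.symm (hσ i)

end Groth.Agent.DPWeyl
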