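import Groth.Agent.DPWeyl.Basic

/-! Kernel-checked certificates for exceptional classes and triples of them. -/

set_option autoImplicit false
set_option Elab.async false

namespace Groth.Agent.DPWeyl

/-- The class of the last exceptional divisor. -/
def E0 : List ℤ := [0, 0, 0, 0, 0, 0, 0, 0, -1]

/-- The roots fixing `E0`. -/
def R2 : List (List ℤ) := stab (roots 8) E0

/-- Orbit representatives of the stabiliser of `E0`. -/
def five : List (List ℤ) := [[0, 0, 0, 0, 0, 0, 0, 0, -1], [0, 0, 0, 0, 0, 0, 0, -1, 0], [1, 1, 0, 0, 0, 0, 0, 0, 1],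
  [3, 1, 1, 1, 1, 1, 1, 0, 2], [6, 2, 2, 2, 2, 2, 2, 2, 3]]

/-- The representative by intersection number. -/
def tabE (c : ℤ) : List ℤ := five.getD (c + 1).toNat []

/-- The first certificate. -/
def checkE : Bool :=
  excs.all fun w =>
    decide (-10000 ≤ ht w) &&
    (!decide (Dom (roots 8) w) || w == E0) &&
    (!decide (Dom R2 w) || (w == tabE (fL E0 w) && five.contains w))

theorem checkE_true : checkE = true := by decide +kernel

/-- The third member of a triple with sum `E0 - 2K`. -/
def third (A B : List ℤ) : List ℤ :=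
  List.zipWith (fun s x => s - x) [6, 2, 2, 2, 2, 2, 2, 2, 1] (List.zipWith (· + ·) A B)

/-- Orbit representatives of triples. -/
def triples : List (List (List ℤ)) :=
  [[[0, 0, 0, 0, 0, 0, 0, -1, 0], [1, 1, 0, 0, 0, 0, 0, 1, 0], [5, 1, 2, 2, 2, 2, 2, 2, 1]],
   [[0, 0, 0, 0, 0, 0, 0, -1, 0], [0, 0, 0, 0, 0, 0, 0, 0, -1], [6, 2, 2, 2, 2, 2, 2, 3, 2]],
   [[0, 0, 0, 0, 0, 0, 0, 0, -1], [0, 0, 0, 0, 0, 0, 0, 0, -1], [6, 2, 2, 2, 2, 2, 2, 2, 3]],
   [[0, 0, 0, 0, 0, 0, 0, 0, -1], [1, 1, 0, 0, 0, 0, 0, 0, 1], [5, 1, 2, 2, 2, 2, 2, 2, 1]]]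

/-- The six orders. -/
def orders : List (List ℕ) := [[0, 1, 2], [0, 2, 1], [1, 0, 2], [1, 2, 0], [2, 0, 1], [2, 1, 0]]

/-- The moves normalising an ordered triple. -/
def moves3 (t : List (List ℤ)) : List (List ℤ) :=
  let m₁ := moves R2 50 (t.getD 0 [])
  m₁ ++ moves (stab R2 (app m₁ (t.getD 0 []))) 50 (app m₁ (t.getD 1 []))

/-- Whether some order of the triple normalises to one of the representatives. -/
def good (t : List (List ℤ)) : Bool :=
  orders.any fun p => triples.contains
    ((p.map fun i => t.getD i []).map (app (moves3 (p.map fun i => t.getD i []))))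

/-- The second certificate. -/
def check3 : Bool :=
  five.all fun A => excs.all fun B =>
    !decide (Dom (stab R2 A) B) || !excs.contains (third A B) || good [A, B, third A B]

theorem check3_true : check3 = true := by decide +kernel

theorem roots8_ok : ∀ r ∈ roots 8, IsRootL 8 r ∧ 0 < ht r := by decide +kernel

end Groth.Agent.DPWeyl
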